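import Groth.Agent.L25.Observable.Transfer
import Groth.Agent.L25.Observable.Regular
import Groth.Agent.L25.Observable.Semi
import Groth.Agent.L19.AlgGrpBasic.OpenSubgroup
import Groth.Agent.S12428
import Groth.Agent.L01.NagataFiniteType
import Groth.Agent.L18.NormalizationField

/-!
# Finite generation of invariants and open subgroups
-/

set_option autoImplicit false
set_option backward.isDefEq.respectTransparency.types false
set_option maxHeartbeats 1000000
set_option linter.unusedSectionVars false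

universe u

open CategoryTheory CategoryTheory.Limits MonoidalCategory CartesianMonoidalCategory MonObj GrpObj AlgebraicGeometry
open Groth.L25.Observable WithConv

noncomputable section

namespace Groth.L16.FinInv

variable {k : Type u} [Field k] {G H H₁ : Over (Spec (CommRingCat.of k))} [GrpObj G] [GrpObj H] [GrpObj H₁]
  {A : Type u} [CommRing A] [HopfAlgebra k A] (ψ : G ⟶ Sp k A)

/-- the invariant functions as a subalgebra -/
def invSub (i : H ⟶ G) : Subalgebra k A where
  carrier := inv' ψ i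
  mul_mem' {a b} ha hb x h := by rw [map_mul, map_mul, ha x h, hb x h]
  add_mem' ha hb := (inv' ψ i).add_mem ha hb
  algebraMap_mem' c x h := by rw [AlgHom.commutes, AlgHom.commutes]

theorem mem_invSub {i : H ⟶ G} {a : A} : a ∈ invSub ψ i ↔ a ∈ inv' ψ i := Iff.rfl

variable [IsAlgClosed k] [IsAffine G.left] [Smooth G.hom] [IsMonHom ψ] [IsIso ψ]
  [_root_.IsReduced A] [Algebra.FiniteType k A]

/-- finite generation of the subring of invariant global functions -/
theorem subringFG_iff (i : H ⟶ G) [IsAffine H.left] [Smooth H.hom] :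
    AGF.SubringFGOver k G (AGF.rTransInv i) ↔ (invSub ψ i).FG := by
  classical
  constructor
  · rintro ⟨s, hs, hle⟩
    choose pre hpre using fn_surjective ψ
    refine ⟨s.image pre, le_antisymm (Algebra.adjoin_le fun a ha => ?_) fun a ha => ?_⟩
    · obtain ⟨f, hf, rfl⟩ := Finset.mem_image.1 (Finset.mem_coe.1 ha)
      exact (mem_inv'_iff ψ i _).2 (by rw [hpre]; exact hs hf)
    · have h1 : fn ψ a ∈ (Algebra.adjoin k ((s.image pre : Finset A) : Set A)).toSubring.map (fnHom ψ) := by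
        refine Subring.closure_le.2 ?_ (hle ((mem_inv'_iff ψ i a).1 ha))
        rintro f (⟨c, rfl⟩ | hf)
        · exact ⟨algebraMap k A c, Subalgebra.algebraMap_mem _ c, fn_algebraMap ψ c⟩
        · exact ⟨pre f, Algebra.subset_adjoin (Finset.mem_coe.2 (Finset.mem_image_of_mem _ hf)), hpre f⟩
      obtain ⟨b, hb, e⟩ := h1
      exact fn_injective ψ e ▸ hb
  · rintro ⟨s, hs⟩
    refine ⟨s.image (fn ψ), fun f hf => ?_, fun f hf => ?_⟩
    · obtain ⟨c, hc', rfl⟩ := Finset.mem_image.1 (Finset.mem_coe.1 hf)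
      exact (mem_inv'_iff ψ i c).1 (show c ∈ invSub ψ i from hs ▸ Algebra.subset_adjoin (Finset.mem_coe.2 hc'))
    · obtain ⟨c, rfl⟩ := fn_surjective ψ f
      have hc' : c ∈ Algebra.adjoin k (↑s : Set A) := hs ▸ ((mem_inv'_iff ψ i c).2 hf)
      clear hf
      induction hc' using Algebra.adjoin_induction with
      | mem x hx => exact Subring.subset_closure (Or.inr (Finset.mem_coe.2 (Finset.mem_image_of_mem _ hx)))
      | algebraMap r => exact Subring.subset_closure (Or.inl ⟨r, (fn_algebraMap ψ r).symm⟩)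
      | add x y _ _ hx hy => rw [← fnHom_apply, map_add]; exact add_mem hx hy
      | mul x y _ _ hx hy => rw [← fnHom_apply, map_mul]; exact mul_mem hx hy

/-- Finite generation of invariants is unchanged under passage to an open subgroup. -/
theorem fg_iff_finiteIndex (i : H ⟶ G) [IsMonHom i] [IsClosedImmersion i.left] [Smooth H.hom] (a : H₁ ⟶ H)
    [IsMonHom a] [IsOpenImmersion a.left] : (invSub ψ i).FG ↔ (invSub ψ (a ≫ i)).FG := by
  classical
  haveI : IsAffine H.left := isAffine_of_isAffineHom i.left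
  let S := invSub ψ i
  let T := invSub ψ (a ≫ i)
  have hST : ∀ s ∈ S, s ∈ T := fun s hs x h => by rw [← Category.assoc]; exact hs x (h ≫ a)
  obtain ⟨F₀, hF₀⟩ := Groth.L19.AlgGrpBasic.exists_cosets (k := k) k a
  let Γ : Subgroup (VecGrp.pt k k ⟶ H) :=
    ((MonoidHom.mk' (fun x : VecGrp.pt k k ⟶ H₁ => x ≫ a) fun x y => MonObj.mul_comp x y a)).range
  haveI : Finite ((VecGrp.pt k k ⟶ H) ⧸ Γ) := by
    refine Finite.of_surjective (fun c : F₀ => ((c.1 : VecGrp.pt k k ⟶ H) : (VecGrp.pt k k ⟶ H) ⧸ Γ)) fun q => ?_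
    induction q using QuotientGroup.induction_on with
    | H h =>
      obtain ⟨c, hc, x, hx⟩ := hF₀ h
      exact ⟨⟨c, hc⟩, QuotientGroup.eq.2 ⟨x, by show x ≫ a = c⁻¹ * h; rw [hx, inv_mul_cancel_left]⟩⟩
  haveI := Fintype.ofFinite ((VecGrp.pt k k ⟶ H) ⧸ Γ)
  let σ : (VecGrp.pt k k ⟶ H) → (A →ₐ[k] A) := fun h => Rt (ev ψ (h ≫ i)).ofConv
  have hσ : ∀ h x (c : A), (ev ψ x).ofConv (σ h c) = (ev ψ (x * (h ≫ i))).ofConv c := fun h x c => by
    rw [apply_Rt, ← ev_mul]
  have hσT : ∀ t ∈ T, ∀ h h' : VecGrp.pt k k ⟶ H, (h : (VecGrp.pt k k ⟶ H) ⧸ Γ) = h' → σ h t = σ h' t := by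
    intro t ht h h' e
    obtain ⟨z, hz⟩ := QuotientGroup.eq.1 e
    refine eq_of_forall_ev ψ fun x => ?_
    have hh : h' = h * (z ≫ a) := by rw [show z ≫ a = _ from hz, mul_inv_cancel_left]
    rw [hσ, hσ, hh, MonObj.mul_comp, ← _root_.mul_assoc, Category.assoc]
    exact (ht (x * (h ≫ i)) z).symm
  -- integrality
  have hint : ∀ t ∈ T, IsIntegral S t := by
    intro t ht
    let P : Polynomial A := ∏ q : (VecGrp.pt k k ⟶ H) ⧸ Γ, (Polynomial.X - Polynomial.C (σ q.out t))
    have hPm : P.Monic := Polynomial.monic_prod_of_monic _ _ fun q _ => Polynomial.monic_X_sub_C _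
    have hfix : ∀ h, P.map (σ h).toRingHom = P := by
      intro h
      rw [Polynomial.map_prod]
      simp only [Polynomial.map_sub, Polynomial.map_X, Polynomial.map_C]
      refine Fintype.prod_equiv (MulAction.toPerm h) _ _ fun q => ?_
      congr 2
      have e : σ h (σ q.out t) = σ (h * q.out) t := eq_of_forall_ev ψ fun x => by
        rw [hσ, hσ, hσ, MonObj.mul_comp, _root_.mul_assoc]
      refine e.trans (hσT t ht _ _ ?_)
      show _ = (((h • q : (VecGrp.pt k k ⟶ H) ⧸ Γ)).out : (VecGrp.pt k k ⟶ H) ⧸ Γ)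
      rw [QuotientGroup.out_eq']
      conv_rhs => rw [← QuotientGroup.out_eq' q]
      rfl
    have hmem : ∀ n, P.coeff n ∈ S := fun n x h => by
      conv_rhs => rw [← hfix h]
      rw [Polynomial.coeff_map]
      exact (hσ h x (P.coeff n)).symm
    have hl : P ∈ Polynomial.lifts (algebraMap S A) :=
      (Polynomial.lifts_iff_coeff_lifts _).2 fun n => ⟨⟨_, hmem n⟩, rfl⟩
    haveI : Nontrivial A := RingHom.domain_nontrivial (ev ψ (1 : VecGrp.pt k k ⟶ G)).ofConv.toRingHom
    obtain ⟨Q, hQ, -, hQm⟩ := Polynomial.lifts_and_degree_eq_and_monic hl hPm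
    refine ⟨Q, hQm, ?_⟩
    rw [← Polynomial.eval_map, hQ, Polynomial.eval_prod]
    refine Finset.prod_eq_zero (Finset.mem_univ ((1 : VecGrp.pt k k ⟶ H) : (VecGrp.pt k k ⟶ H) ⧸ Γ)) ?_
    have e1 : σ 1 t = t := eq_of_forall_ev ψ fun x => by rw [hσ, MonObj.one_comp, _root_.mul_one]
    rw [hσT t ht _ 1 (QuotientGroup.out_eq' _), e1]
    simp
  letI : Algebra S T := (Subalgebra.inclusion (fun s hs => hST s hs : S ≤ T)).toRingHom.toAlgebra
  haveI : IsScalarTower k S T := IsScalarTower.of_algebraMap_eq fun c => rfl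
  haveI : IsScalarTower S T A := IsScalarTower.of_algebraMap_eq fun c => rfl
  constructor
  · intro hS
    haveI : Algebra.FiniteType k S := (Subalgebra.fg_iff_finiteType _).1 hS
    haveI : IsNoetherianRing S := Algebra.FiniteType.isNoetherianRing k S
    haveI : Algebra.FiniteType S A := Algebra.FiniteType.of_restrictScalars_finiteType k S A
    haveI := Groth.L01.Nagata.finite_integralClosure_of_isNagata (S := A)
      (Groth.L01.Nagata.isNagata_of_finiteType (R := k) (S := S) (Groth.L18.NormField.isNagata_field k))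
    let e : T →ₗ[S] integralClosure S A :=
      { toFun := fun t => ⟨t.1, hint t.1 t.2⟩
        map_add' := fun _ _ => rfl
        map_smul' := fun _ _ => rfl }
    haveI : Module.Finite S T := Module.Finite.of_injective e fun u v h =>
      Subtype.ext (congrArg (fun z : integralClosure S A => (z : A)) h)
    exact (Subalgebra.fg_iff_finiteType _).2 (Algebra.FiniteType.trans (S := S) inferInstance inferInstance)
  · intro hT
    haveI hTft : Algebra.FiniteType k T := (Subalgebra.fg_iff_finiteType _).1 hT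
    haveI : Algebra.FiniteType S T := Algebra.FiniteType.of_restrictScalars_finiteType k S T
    haveI : Algebra.IsIntegral S T := ⟨fun t => by
      have := hint t.1 t.2
      exact (isIntegral_algebraMap_iff (B := A) (show Function.Injective (algebraMap T A) from Subtype.val_injective)).1 this⟩
    haveI : Module.Finite S T := Algebra.IsIntegral.finite
    exact (Subalgebra.fg_iff_finiteType _).2 ⟨fg_of_fg_of_fg k S T hTft.out Module.Finite.fg_top
      (Subalgebra.inclusion_injective _)⟩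

/-- Finite generation of invariants is unchanged under restriction to an open subgroup of the ambient group. -/
theorem fg_iff_open {G₀ : Over (Spec (CommRingCat.of k))} [GrpObj G₀] {A₀ : Type u} [CommRing A₀]
    [HopfAlgebra k A₀] (θ : G₀ ⟶ Sp k A₀) [IsMonHom θ] [IsIso θ] [_root_.IsReduced A₀] [Algebra.FiniteType k A₀]
    (j : G₀ ⟶ G) [IsMonHom j] [IsOpenImmersion j.left] [IsClosedImmersion j.left] (i₀ : H ⟶ G₀) :
    (invSub ψ (i₀ ≫ j)).FG ↔ (invSub θ i₀).FG := by
  classical
  haveI : IsAffine G₀.left := isAffine_of_isAffineHom j.left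
  let T := invSub ψ (i₀ ≫ j)
  let T₀ := invSub θ i₀
  obtain ⟨π, hπs, hπ⟩ := exists_res ψ θ j
  obtain ⟨e, -, hind⟩ := Groth.Agent.S12428.exists_indicator ψ j j.left.isClosedEmbedding.isClosed_range
  have hπT : ∀ t ∈ T, π t ∈ T₀ := fun t ht x h => by
    rw [hπ, hπ, MonObj.mul_comp, Category.assoc]
    exact ht _ h
  have hin : ∀ (y : VecGrp.pt k k ⟶ G) (h : VecGrp.pt k k ⟶ H), (¬ ∃ γ₀, γ₀ ≫ j = y) →
      ¬ ∃ γ₀, γ₀ ≫ j = y * (h ≫ i₀ ≫ j) := by
    rintro y h hy ⟨γ₀, hγ⟩
    exact hy ⟨γ₀ * (h ≫ i₀)⁻¹, by rw [MonObj.mul_comp, GrpObj.inv_comp, hγ, Category.assoc, mul_inv_cancel_right]⟩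
  have hext : ∀ f ∈ T₀, ∃ t ∈ T, π t = f := by
    intro f hf
    obtain ⟨c, rfl⟩ := hπs f
    refine ⟨e * c, fun x h => ?_, eq_of_forall_ev θ fun γ => ?_⟩
    · by_cases hx : ∃ γ₀, γ₀ ≫ j = x
      · obtain ⟨γ₀, rfl⟩ := hx
        have e1 : (γ₀ ≫ j) * (h ≫ i₀ ≫ j) = (γ₀ * (h ≫ i₀)) ≫ j := by rw [MonObj.mul_comp, Category.assoc]
        rw [e1, map_mul, map_mul, (hind _).1 ⟨_, rfl⟩, (hind _).1 ⟨_, rfl⟩, ← hπ, ← hπ]
        rw [hf γ₀ h]
      · rw [map_mul, map_mul, (hind _).2 hx, (hind _).2 (hin x h hx), zero_mul, zero_mul]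
    · rw [hπ, hπ, map_mul, (hind _).1 ⟨_, rfl⟩, _root_.one_mul]
  constructor
  · intro hT
    let φ : T →ₐ[k] T₀ := (π.comp T.val).codRestrict T₀ fun t => hπT t t.2
    haveI : Algebra.FiniteType k T := (Subalgebra.fg_iff_finiteType _).1 hT
    refine (Subalgebra.fg_iff_finiteType _).2 (Algebra.FiniteType.of_surjective φ fun f => ?_)
    obtain ⟨t, ht, htf⟩ := hext f.1 f.2
    exact ⟨⟨t, ht⟩, Subtype.ext htf⟩
  · rintro ⟨s, hs⟩
    have hsmem : ∀ f ∈ s, f ∈ T₀ := fun f hf =>
      show f ∈ invSub θ i₀ from hs ▸ Algebra.subset_adjoin (Finset.mem_coe.2 hf)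
    choose! lift hlift hliftπ using fun f (hf : f ∈ s) => hext f (hsmem f hf)
    obtain ⟨F₀, hF₀⟩ := Groth.L19.AlgGrpBasic.exists_cosets (k := k) k j
    let τ : (VecGrp.pt k k ⟶ G) → (A →ₐ[k] A) := fun c => Lt (ev ψ c⁻¹).ofConv
    have hτ : ∀ c x (d : A), (ev ψ x).ofConv (τ c d) = (ev ψ (c⁻¹ * x)).ofConv d := fun c x d => by
      rw [apply_Lt, ← ev_mul]
    let gens : Finset A := F₀.image (fun c => τ c e) ∪ F₀.biUnion (fun c => s.image fun f => τ c (lift f))
    let U := Algebra.adjoin k (↑gens : Set A)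
    have hτT : ∀ c, ∀ d ∈ T, τ c d ∈ T := fun c d hd x h => by
      rw [hτ, hτ, ← _root_.mul_assoc]; exact hd _ h
    have heT : e ∈ T := fun x h => by
      by_cases hx : ∃ γ₀, γ₀ ≫ j = x
      · obtain ⟨γ₀, rfl⟩ := hx
        rw [(hind _).1 ⟨γ₀, rfl⟩, (hind _).1 ⟨γ₀ * (h ≫ i₀), by rw [MonObj.mul_comp, Category.assoc]⟩]
      · rw [(hind _).2 hx, (hind _).2 (hin x h hx)]
    refine ⟨gens, le_antisymm (Algebra.adjoin_le fun a ha => ?_) fun t ht => ?_⟩
    · rcases Finset.mem_union.1 (Finset.mem_coe.1 ha) with h | h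
      · obtain ⟨c, -, rfl⟩ := Finset.mem_image.1 h
        exact hτT c e heT
      · obtain ⟨c, -, h⟩ := Finset.mem_biUnion.1 h
        obtain ⟨f, hf, rfl⟩ := Finset.mem_image.1 h
        exact hτT c _ (hlift f hf)
    have hec : ∀ c ∈ F₀, τ c e ∈ U := fun c hc =>
      Algebra.subset_adjoin (Finset.mem_coe.2 (Finset.mem_union_left _ (Finset.mem_image_of_mem _ hc)))
    have hmain : ∀ c ∈ F₀, τ c e * t ∈ U := by
      intro c hc
      have hmem : π (Lt (ev ψ c).ofConv t) ∈ T₀ := hπT _ fun x h => by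
        rw [apply_Lt, ← ev_mul, apply_Lt, ← ev_mul, ← _root_.mul_assoc]; exact ht _ h
      have hle : Algebra.adjoin k (↑s : Set A₀) ≤
          ((Algebra.adjoin k (↑(s.image lift) : Set A)).map π) := Algebra.adjoin_le fun f hf =>
        ⟨lift f, Algebra.subset_adjoin (Finset.mem_coe.2 (Finset.mem_image_of_mem _ hf)), hliftπ f hf⟩
      obtain ⟨p, hp, hpe⟩ := hle (show π (Lt (ev ψ c).ofConv t) ∈ Algebra.adjoin k (↑s : Set A₀) from hs ▸ hmem)
      have hτp : τ c p ∈ U := by
        have : Algebra.adjoin k (↑(s.image lift) : Set A) ≤ U.comap (τ c) := Algebra.adjoin_le fun d hd => by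
          obtain ⟨f, hf, rfl⟩ := Finset.mem_image.1 (Finset.mem_coe.1 hd)
          exact Algebra.subset_adjoin (Finset.mem_coe.2 (Finset.mem_union_right _
            (Finset.mem_biUnion.2 ⟨c, hc, Finset.mem_image_of_mem _ hf⟩)))
        exact this hp
      have key : τ c e * t = τ c e * τ c p := eq_of_forall_ev ψ fun x => by
        rw [map_mul, map_mul, hτ, hτ]
        by_cases hx : ∃ γ₀, γ₀ ≫ j = c⁻¹ * x
        · obtain ⟨γ₀, hγ⟩ := hx
          have h1 := congrArg (ev θ γ₀).ofConv hpe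
          change (ev θ γ₀).ofConv (π p) = _ at h1
          rw [hπ, hπ, apply_Lt, ← ev_mul, hγ, mul_inv_cancel_left] at h1
          rw [h1]
        · rw [(hind _).2 hx, zero_mul, zero_mul]
      rw [key]
      exact mul_mem (hec c hc) hτp
    -- the indicators cover the group
    have hprod : ∏ c ∈ F₀, (1 - τ c e) = 0 := eq_of_forall_ev ψ fun x => by
      obtain ⟨c, hc, h, hx⟩ := hF₀ x
      rw [map_prod, map_zero]
      refine Finset.prod_eq_zero hc ?_
      rw [map_sub, map_one, hτ, (hind _).1 ⟨h, by rw [hx, inv_mul_cancel_left]⟩, sub_self]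
    have hJ : ∀ F : Finset (VecGrp.pt k k ⟶ G), F ⊆ F₀ →
        (∏ c ∈ F, (1 - τ c e)) ∈ U ∧ (1 - ∏ c ∈ F, (1 - τ c e)) * t ∈ U := by
      intro F
      induction F using Finset.induction_on with
      | empty => intro _; simp
      | insert c F hc ih =>
        intro hsub
        obtain ⟨h1, h2⟩ := ih fun y hy => hsub (Finset.mem_insert_of_mem hy)
        have hcF := hsub (Finset.mem_insert_self c F)
        rw [Finset.prod_insert hc]
        refine ⟨mul_mem (sub_mem (one_mem _) (hec c hcF)) h1, ?_⟩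
        have : (1 - (1 - τ c e) * ∏ x ∈ F, (1 - τ x e)) * t =
            (1 - ∏ x ∈ F, (1 - τ x e)) * t + (τ c e * t) * ∏ x ∈ F, (1 - τ x e) := by ring
        rw [this]
        exact add_mem h2 (mul_mem (hmain c hcF) h1)
    have := (hJ F₀ (Finset.Subset.refl _)).2
    rwa [hprod, sub_zero, _root_.one_mul] at this

end Groth.L16.FinInv
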